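import Groth.Agent.IntNum.Leading
import Groth.Agent.SheafHomX.Coherent
import Groth.Prelude

/-! The rank map on `K₀` of coherent modules of a Noetherian scheme and its kernel (the first step of the
coniveau filtration). -/

noncomputable section

set_option linter.style.haveILetI false
set_option linter.unusedSectionVars false
set_option backward.isDefEq.respectTransparency false
set_option backward.isDefEq.respectTransparency.types false

universe u

open CategoryTheory CategoryTheory.Limits AlgebraicGeometry TopologicalSpace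

namespace Groth.Agent.RkKer7

open IntNum

variable {X : Scheme.{u}} [IsNoetherian X]

theorem dim_zero_iff {x : X} : ringKrullDim (X.presheaf.stalk x) = 0 ↔ ∀ z, z ⤳ x → z = x := by
  refine ⟨fun h => ?_, CycLib.stalk_dim_zero_of_maximal⟩
  rw [DimFormula.ringKrullDim_stalk] at h
  exact DimFormula.codim_eq_zero_iff.1 (by exact_mod_cast h)

theorem one_le_dim_iff {x : X} :
    (1 : WithBot ℕ∞) ≤ ringKrullDim (X.presheaf.stalk x) ↔ ringKrullDim (X.presheaf.stalk x) ≠ 0 := by
  rw [DimFormula.ringKrullDim_stalk]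
  constructor
  · intro h e
    rw [e] at h
    exact absurd h (by decide)
  · intro h
    have h' : DimFormula.codim x ≠ 0 := fun e => h (by rw [e]; rfl)
    exact_mod_cast Order.one_le_iff_pos.2 (pos_iff_ne_zero.2 h')

/-- The generic points of the irreducible components. -/
abbrev Gen (X : Scheme.{u}) : Type u := {x : X // ringKrullDim (X.presheaf.stalk x) = 0}

instance finite_gen : Finite (Gen X) := by
  haveI : Finite (irreducibleComponents (X : Type u)) :=
    NoetherianSpace.finite_irreducibleComponents.to_subtype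
  refine Finite.of_injective (β := irreducibleComponents (X : Type u))
    (fun η => ⟨closure {η.1}, isIrreducible_singleton.closure, fun T hT hle => ?_⟩) ?_
  · obtain ⟨z, hz⟩ := QuasiSober.sober hT.closure isClosed_closure
    have hsp : z ⤳ η.1 := hz.specializes (subset_closure (hle (subset_closure rfl)))
    rw [← dim_zero_iff.1 η.2 z hsp, hz.def]
    exact subset_closure
  · intro a b h
    refine Subtype.ext (Inseparable.eq ?_)
    exact inseparable_iff_closure_eq.2 (congrArg Subtype.val h)

theorem lenAt_additive {S : ShortComplex X.Modules} (hS : S.ShortExact) (h₁ : Coh.IsCoh S.X₁)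
    (h₂ : Coh.IsCoh S.X₂) (h₃ : Coh.IsCoh S.X₃) (η : Gen X) :
    lenAt S.X₂ η.1 = lenAt S.X₁ η.1 + lenAt S.X₃ η.1 := by
  have e := CycLib.length_stalk_shortExact hS h₁.1 h₂.1 h₃.1 η.1
  have hfin := CycLib.length_stalk_lt_top S.X₂ h₂ (ξ := η.1) fun y _ hy => dim_zero_iff.1 η.2 y hy
  rw [e] at hfin
  have hlt := WithTop.add_ne_top.1 hfin.ne
  unfold lenAt
  rw [e, ENat.toNat_add hlt.1 hlt.2]

theorem lenAt_iso {M N : X.Modules} (e : M ≅ N) (x : X) : lenAt N x = lenAt M x := by
  unfold lenAt
  exact congrArg ENat.toNat (LinearEquiv.length_eq ((DerSch.stalkFunctor X x).mapIso e).toLinearEquiv).symm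

local notation "cl" => KZero.clSub (fun M : X.Modules => Coh.IsCoh M)

theorem cl_apply (M : X.Modules) (h : Coh.IsCoh M) : cl M =
    QuotientAddGroup.mk (FreeAbelianGroup.of ⟨M, h⟩) := by rw [KZero.clSub, dif_pos h]

theorem cl_additive {S : ShortComplex X.Modules} (hS : S.ShortExact) (h₁ : Coh.IsCoh S.X₁)
    (h₂ : Coh.IsCoh S.X₂) (h₃ : Coh.IsCoh S.X₃) : cl S.X₂ = cl S.X₁ + cl S.X₃ := by
  rw [cl_apply _ h₁, cl_apply _ h₂, cl_apply _ h₃, ← QuotientAddGroup.mk_add, QuotientAddGroup.eq]
  have : FreeAbelianGroup.of (⟨S.X₂, h₂⟩ : Subtype fun M : X.Modules => Coh.IsCoh M) -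
      FreeAbelianGroup.of ⟨S.X₁, h₁⟩ - FreeAbelianGroup.of ⟨S.X₃, h₃⟩ ∈
      KZero.relSub (fun M : X.Modules => Coh.IsCoh M) :=
    AddSubgroup.subset_closure ⟨S, h₁, h₂, h₃, hS, rfl⟩
  have h' := AddSubgroup.neg_mem _ this
  convert h' using 1
  abel

/-- The rank map. -/
def rk (X : Scheme.{u}) [IsNoetherian X] : SGA6.Kcoh X →+ (Gen X → ℤ) :=
  QuotientAddGroup.lift _ (FreeAbelianGroup.lift fun M η => (lenAt M.1 η.1 : ℤ)) (by
    rw [KZero.relSub, AddSubgroup.closure_le]
    rintro x ⟨S, h₁, h₂, h₃, hS, rfl⟩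
    refine funext fun η => ?_
    simp only [map_sub, FreeAbelianGroup.lift_apply_of, Pi.sub_apply, lenAt_additive hS h₁ h₂ h₃ η,
      Nat.cast_add, Pi.zero_apply]
    ring)

theorem rk_cl (M : X.Modules) (h : Coh.IsCoh M) : rk X (cl M) = fun η => (lenAt M η.1 : ℤ) := by
  rw [cl_apply M h]
  exact FreeAbelianGroup.lift_apply_of _ _

/-- A structure sheaf of a component, with its rank. -/
theorem exists_unit_module (η : Gen X) : ∃ G : X.Modules, Coh.IsCoh G ∧ lenAt G η.1 = 1 ∧
    (∀ η' : Gen X, η' ≠ η → lenAt G η'.1 = 0) ∧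
    ∀ (Z : Scheme.{u}) (i : Z ⟶ X) [IsClosedImmersion i] [IsIntegral Z], Set.range i = closure {η.1} →
      Nonempty (G ≅ (Coh.push i).obj (Coh.structureModule Z)) := by
  haveI : IsIntegral (ptIdeal η.1).subscheme := QCoh.isIntegral_closure_point η.1
  let j := (ptIdeal η.1).subschemeι
  refine ⟨(Coh.push j).obj (Coh.structureModule _), QCoh.isCoh_push_structure j, ?_, ?_, ?_⟩
  · have hgen : j (genericPoint _) = η.1 := by
      have h := (QCoh.range_eq_closure j).symm.trans (range_ptIdeal η.1)
      exact (inseparable_iff_closure_eq.2 h).eq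
    have := lenAt_push_structure j
    rwa [hgen] at this
  · intro η' hne
    refine lenAt_eq_zero fun h => hne (Subtype.ext ?_)
    have hs := QCoh.support_push_subset j QCoh.isQCoh_structureModule h
    rw [range_ptIdeal] at hs
    exact (dim_zero_iff.1 η'.2 η.1 (specializes_iff_mem_closure.2 hs)).symm
  · intro Z i _ _ hr
    exact ⟨(QCoh.push_structure_iso j i (hr.trans (range_ptIdeal η.1).symm)).some.symm⟩

def N (X : Scheme.{u}) : AddSubgroup (SGA6.Kcoh X) :=
  AddSubgroup.closure {c : SGA6.Kcoh X | ∃ F : X.Modules, Coh.IsCoh F ∧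
    (∀ x ∈ CohB1.support F, (1 : WithBot ℕ∞) ≤ ringKrullDim (X.presheaf.stalk x)) ∧
    c = KZero.clSub (fun M : X.Modules => Coh.IsCoh M) F}

theorem N_le_ker : N X ≤ (rk X).ker := by
  rw [N, AddSubgroup.closure_le]
  rintro c ⟨F, hF, hs, rfl⟩
  rw [SetLike.mem_coe, AddMonoidHom.mem_ker, rk_cl F hF]
  funext η
  have : lenAt F η.1 = 0 := lenAt_eq_zero fun h => one_le_dim_iff.1 (hs η.1 h) η.2
  simp [this]

open scoped Classical in
theorem exists_unit_classes : ∃ e : Gen X → SGA6.Kcoh X,
    (∀ η, rk X (e η) = Pi.single η 1) ∧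
    ∀ c : SGA6.Kcoh X, ∀ [Fintype (Gen X)], c - ∑ η, rk X c η • e η ∈ N X := by
  choose G hG hG1 hG0 hGiso using exists_unit_module (X := X)
  refine ⟨fun η => cl (G η), fun η => ?_, ?_⟩
  · rw [rk_cl _ (hG η)]
    funext η'
    rcases eq_or_ne η' η with rfl | hne
    · rw [Pi.single_eq_same, hG1]; rfl
    · rw [Pi.single_eq_of_ne hne, hG0 η η' hne]; rfl
  intro c _
  let L : SGA6.Kcoh X →+ SGA6.Kcoh X :=
    { toFun := fun c => c - ∑ η, rk X c η • cl (G η)
      map_zero' := by simp
      map_add' := fun a b => by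
        simp only [map_add, Pi.add_apply, add_smul, Finset.sum_add_distrib]
        abel }
  show L c ∈ N X
  have key : ∀ M : X.Modules, Coh.IsCoh M → L (cl M) ∈ N X := by
    intro M hM
    refine (QCoh.devissage (fun M => Coh.IsCoh M → L (cl M) ∈ N X) ?_ ?_ Set.univ ?_ ?_ ?_ hM
      (Set.subset_univ _)) hM
    · rintro P Q ⟨e⟩ h hQ
      have hP : Coh.IsCoh P := SheafHomX.isCoh_of_iso e.symm hQ
      have he : cl Q = cl P := by
        rcases e with ⟨f, g, hfg, hgf⟩
        let S := ShortComplex.mk f (0 : Q ⟶ Q) comp_zero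
        have hz : IsZero (cokernel f) := by
          haveI : IsIso f := ⟨g, hfg, hgf⟩
          exact isZero_cokernel_of_epi f
        have hS : (ShortComplex.mk f (cokernel.π f) (cokernel.condition f)).ShortExact := by
          haveI : IsIso f := ⟨g, hfg, hgf⟩
          exact .mk' (ShortComplex.exact_of_g_is_cokernel _ (cokernelIsCokernel f)) inferInstance inferInstance
        have hz' : Coh.IsCoh (cokernel f) := QCoh.isCoh_isZero hz hM
        have h2 := cl_additive hS hP hQ hz'
        have h3 : cl (cokernel f) = 0 := by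
          have hS2 : (ShortComplex.mk (𝟙 (cokernel f)) (𝟙 (cokernel f)) (hz.eq_of_src _ _)).ShortExact :=
            .mk' (ShortComplex.exact_of_isZero_X₂ _ hz) inferInstance inferInstance
          simpa using cl_additive hS2 hz' hz' hz'
        simpa [h3] using h2
      rw [he]; exact h hP
    · intro P h hP
      have : cl P = 0 := by
        have hS2 : (ShortComplex.mk (𝟙 P) (𝟙 P) (h.eq_of_src _ _)).ShortExact :=
          .mk' (ShortComplex.exact_of_isZero_X₂ _ h) inferInstance inferInstance
        simpa using cl_additive hS2 hP hP hP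
      rw [this, map_zero]; exact (N X).zero_mem
    · intro T hT a b c _ h1 h3 _
      rw [cl_additive hT a b c, map_add]
      exact (N X).add_mem (h1 a) (h3 c)
    · intro ξ _ _ Z i _ _ hr hI
      by_cases hc : ringKrullDim (X.presheaf.stalk ξ) = 0
      · obtain ⟨e⟩ := hGiso ⟨ξ, hc⟩ Z i hr
        have hlen : ∀ η : Gen X, rk X (cl ((Coh.push i).obj (Coh.structureModule Z))) η =
            if η = ⟨ξ, hc⟩ then 1 else 0 := by
          intro η
          rw [rk_cl _ hI]
          show ((lenAt _ η.1 : ℕ) : ℤ) = _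
          rw [lenAt_iso e η.1]
          rcases eq_or_ne η ⟨ξ, hc⟩ with rfl | hne
          · rw [if_pos rfl, hG1]; rfl
          · rw [if_neg hne, hG0 _ _ hne]; rfl
        have he : cl ((Coh.push i).obj (Coh.structureModule Z)) = cl (G ⟨ξ, hc⟩) := by
          haveI := (inferInstance : IsIso e.hom)
          have hz : IsZero (cokernel e.hom) := isZero_cokernel_of_epi e.hom
          have hS : (ShortComplex.mk e.hom (cokernel.π e.hom) (cokernel.condition e.hom)).ShortExact :=
            .mk' (ShortComplex.exact_of_g_is_cokernel _ (cokernelIsCokernel e.hom)) inferInstance inferInstance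
          have hz' : Coh.IsCoh (cokernel e.hom) := QCoh.isCoh_isZero hz hM
          have h2 := cl_additive hS (hG _) hI hz'
          have h3 : cl (cokernel e.hom) = 0 := by
            have hS2 : (ShortComplex.mk (𝟙 (cokernel e.hom)) (𝟙 (cokernel e.hom)) (hz.eq_of_src _ _)).ShortExact :=
              .mk' (ShortComplex.exact_of_isZero_X₂ _ hz) inferInstance inferInstance
            simpa using cl_additive hS2 hz' hz' hz'
          simpa [h3] using h2
        show cl _ - ∑ η, rk X (cl _) η • cl (G η) ∈ N X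
        simp only [hlen, ite_smul, one_smul, zero_smul, Finset.sum_ite_eq', Finset.mem_univ, if_true]
        rw [he, sub_self]
        exact (N X).zero_mem
      · have hsub : ∀ x ∈ CohB1.support ((Coh.push i).obj (Coh.structureModule Z)),
            (1 : WithBot ℕ∞) ≤ ringKrullDim (X.presheaf.stalk x) := by
          intro x hx
          have hx' := QCoh.support_push_subset i QCoh.isQCoh_structureModule hx
          rw [hr] at hx'
          refine one_le_dim_iff.2 fun h0 => hc ?_
          rw [dim_zero_iff.1 h0 ξ (specializes_iff_mem_closure.2 hx')]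
          exact h0
        have hmem : cl ((Coh.push i).obj (Coh.structureModule Z)) ∈ N X :=
          AddSubgroup.subset_closure ⟨_, hI, hsub, rfl⟩
        have h0 : rk X (cl ((Coh.push i).obj (Coh.structureModule Z))) = 0 := N_le_ker hmem
        show cl _ - ∑ η, rk X (cl _) η • cl (G η) ∈ N X
        simpa [h0] using hmem
    · intro T hT a b c _ h2 h3 _
      have : L (cl T.X₁) = L (cl T.X₂) - L (cl T.X₃) := by
        rw [cl_additive hT a b c, map_add, add_sub_cancel_right]
      rw [this]
      exact (N X).sub_mem (h2 b) (h3 c)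
  obtain ⟨z, rfl⟩ := QuotientAddGroup.mk_surjective c
  induction z using FreeAbelianGroup.induction_on with
  | zero => rw [QuotientAddGroup.mk_zero, map_zero]; exact (N X).zero_mem
  | of M => rw [← cl_apply M.1 M.2]; exact key M.1 M.2
  | neg M h => rw [QuotientAddGroup.mk_neg, map_neg]; exact (N X).neg_mem h
  | add a b ha hb => rw [QuotientAddGroup.mk_add, map_add]; exact (N X).add_mem ha hb

/-- Two homomorphisms with the given values agree, so the kernel is `N`. -/
theorem main : (∀ F : X.Modules, Coh.IsCoh F → rk X (cl F) = fun η => (lenAt F η.1 : ℤ)) ∧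
    Function.Surjective (rk X) ∧ (rk X).ker = N X := by
  classical
  haveI := Fintype.ofFinite (Gen X)
  obtain ⟨e, he, hsp⟩ := exists_unit_classes (X := X)
  refine ⟨rk_cl, fun v => ⟨∑ η, v η • e η, ?_⟩, le_antisymm (fun c hc => ?_) N_le_ker⟩
  · funext η'
    simp [map_sum, map_zsmul, he, Finset.sum_apply, Pi.single_apply]
  · have := hsp c
    simpa [show rk X c = 0 from hc] using this

theorem unique {f : SGA6.Kcoh X →+ (Gen X → ℤ)}
    (hf : ∀ F : X.Modules, Coh.IsCoh F → f (cl F) = fun η => (lenAt F η.1 : ℤ)) : f = rk X := by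
  refine QuotientAddGroup.addMonoidHom_ext _ (FreeAbelianGroup.lift_ext _ _ fun M => ?_)
  show f (QuotientAddGroup.mk (FreeAbelianGroup.of M)) = rk X (QuotientAddGroup.mk (FreeAbelianGroup.of M))
  rw [← cl_apply M.1 M.2, hf _ M.2, rk_cl _ M.2]

end Groth.Agent.RkKer7
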